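import Cfsg.Agent.H799.PB.Ly67
import Cfsg.Agent.H904.McLCent
import Cfsg.Agent.H541.AutFrattini

/-!
# The centralizer of a Sylow 3-subgroup of the Lyons group is a 3-group (helper799, for S4826)
-/

set_option autoImplicit false
set_option maxRecDepth 100000

namespace Cfsg.Agent.H799.PB.Ly3

open Subgroup Cfsg Cfsg.Agent Cfsg.Agent.SporRec Cfsg.Agent.SporRec.LyType Cfsg.Agent.SporRec.LyFiveCore
open Cfsg.Agent.SporRec.LyFiveSix Cfsg.Agent.SporRec.LyFiveBuild Cfsg.Agent.SporRec.LyFiveInv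
open Cfsg.Agent.H513.NilpTools Cfsg.Agent.H513.NilpLy Cfsg.Agent.CpAutLy.Types Cfsg.Agent.CpAutLy.Base
open Cfsg.Agent.TypeM.Two Cfsg.Agent.TypeM.McLFromLy

universe u

/-- a `p'`-subgroup of a group of characteristic `p` acts faithfully on `O_p` -/
theorem card_dvd_of_centric {H : Type u} [Group H] [Finite H] {p : ℕ} [Fact p.Prime]
    (hC : centralizer ((pCore p H : Subgroup H) : Set H) ≤ pCore p H) (P : Subgroup H)
    (hP : (Nat.card ↥P).Coprime p) : Nat.card ↥P ∣ Nat.card (MulAut ↥(pCore p H)) := by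
  have hn := Cfsg.Agent.Lib.Cores.pCore_normal (G := H) p
  let φ : ↥P →* MulAut ↥(pCore p H) := (MulAut.conjNormal (H := pCore p H)).comp P.subtype
  refine Subgroup.card_dvd_of_injective φ ?_
  rw [injective_iff_map_eq_one]
  intro g hg
  have h1 : (g : H) ∈ centralizer ((pCore p H : Subgroup H) : Set H) := by
    rw [mem_centralizer_iff]
    intro r hr
    have h2 := congrArg (fun α : MulAut ↥(pCore p H) => ((α ⟨r, hr⟩ : ↥(pCore p H)) : H)) hg
    have h3 : (g : H) * r * (g : H)⁻¹ = r := by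
      have h4 : ((φ g ⟨r, hr⟩ : ↥(pCore p H)) : H) = (g : H) * r * (g : H)⁻¹ := MulAut.conjNormal_apply _ _
      rw [← h4]
      exact h2
    calc r * (g : H) = (g : H) * r * (g : H)⁻¹ * g := by rw [h3]
      _ = g * r := by group
  have h2 := hC h1
  have h3 : orderOf (g : H) ∣ Nat.card ↥P := P.orderOf_dvd_natCard g.2
  obtain ⟨k, hk⟩ := Cfsg.Agent.Lib.Cores.pCore_isPGroup (G := H) p ⟨(g : H), h2⟩
  have h4 : (g : H) ^ p ^ k = 1 := congrArg Subtype.val hk
  have h5 : orderOf (g : H) = 1 := by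
    have h6 := Nat.dvd_gcd h3 (orderOf_dvd_of_pow_eq_one h4)
    rw [Nat.Coprime.pow_right k hP] at h6
    exact Nat.dvd_one.1 h6
  exact Subtype.ext (orderOf_eq_one_iff.1 h5)

/-- `3 ^ 7` does not divide the order of the automorphism group of a group of order dividing `5 ^ 6` -/
theorem not_dvd_aut {R : Type u} [Group R] [Finite R] (hR : Nat.card R ∣ 5 ^ 6) : ¬ 3 ^ 7 ∣ Nat.card (MulAut R) := by
  intro h
  have : Fact (Nat.Prime 5) := ⟨Nat.prime_five⟩
  obtain ⟨n, hn, hn'⟩ := (Nat.dvd_prime_pow Nat.prime_five).1 hR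
  have h1 : (frattini R).index ∣ 5 ^ n := by rw [← hn']; exact (frattini R).index_dvd_card
  obtain ⟨r, hr, hr'⟩ := (Nat.dvd_prime_pow Nat.prime_five).1 h1
  have h2 := h.trans (H541.AutFrattini.card_aut_dvd hn' hr')
  have h3 : (3 ^ 7 : ℕ).Coprime (5 ^ (r * (n - r))) := Nat.Coprime.pow _ _ (by norm_num)
  have h4 := h3.dvd_of_dvd_mul_left h2
  have h5 : r ≤ 6 := hr.trans hn
  interval_cases r <;> revert h4 <;> decide

theorem cent_eq {G : Type u} [Group G] [Finite G] {L : LyType G} {f : G} (hf : Five L f) {x : G}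
    (hxF : x ∈ zpowers f) (hx1 : x ≠ 1) : centralizer ({x} : Set G) = centralizer ({f} : Set G) := by
  have h1 : zpowers x = zpowers f := by
    apply eq_of_le_of_card_ge (zpowers_le.2 hxF)
    rw [(fin hf).card_F, Nat.card_zpowers, orderOf_mem_core (zpowers_le_core hf hxF) hx1 hf]
  ext y
  rw [mem_centralizer_singleton_iff, mem_centralizer_singleton_iff]
  have h4 : f ∈ zpowers x := by rw [h1]; exact mem_zpowers f
  obtain ⟨n, hn⟩ := hxF
  obtain ⟨m, hm⟩ := h4
  constructor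
  · intro h
    have := ((show Commute y x from h).zpow_right m).eq
    have e : x ^ m = f := hm
    rwa [e] at this
  · intro h
    have := ((show Commute y f from h).zpow_right n).eq
    have e : f ^ n = x := hn
    rwa [e] at this

/-- the centralizer of an element of `E` -/
theorem not_dvd_core {G : Type u} [Group G] [Finite G] {L : LyType G} {f : G} (hf : Five L f)
    (hcard : Nat.card G = 51765179004000000) {u : G} (hu : u ∈ core f) (hu1 : u ≠ 1) :
    ¬ 3 ^ 7 ∣ Nat.card ↥(centralizer ({u} : Set G)) := by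
  have h5F : Fact (Nat.Prime 5) := ⟨Nat.prime_five⟩
  have h3F : Fact (Nat.Prime 3) := ⟨Nat.prime_three⟩
  intro h
  have hcf : ¬ 3 ^ 7 ∣ Nat.card ↥(centralizer ({f} : Set G)) := by
    rw [(extra hf).card_centralizer]
    norm_num
  by_cases hno : ∃ g : G, g * u * g⁻¹ = f
  · obtain ⟨g, hg⟩ := hno
    apply hcf
    rwa [← CpAutLy.McLThree.card_cent_conj hg]
  push Not at hno
  by_cases huF : u ∈ zpowers f
  · rw [cent_eq hf huF hu1] at h
    exact hcf h
  have hC := centric hf hcard hu huF hno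
  obtain ⟨P, hP⟩ := Sylow.exists_subgroup_card_pow_prime 3 (G := ↥(centralizer ({u} : Set G))) (n := 7) h
  have h1 := card_dvd_of_centric hC P (by rw [hP]; norm_num)
  rw [hP] at h1
  refine not_dvd_aut ?_ h1
  -- the order of the 5-core
  have h2 : IsPGroup 5 ↥(pCore 5 ↥(centralizer ({u} : Set G))) := Cfsg.Agent.Lib.Cores.pCore_isPGroup 5
  obtain ⟨n, hn⟩ := IsPGroup.iff_card.1 h2
  have h3 : Nat.card ↥(pCore 5 ↥(centralizer ({u} : Set G))) ∣ 51765179004000000 := by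
    rw [← hcard]
    exact (card_subgroup_dvd_card _).trans (card_subgroup_dvd_card _)
  rw [hn] at h3 ⊢
  have h4 : n ≤ 6 := by
    by_contra hcon
    have h6 : 5 ^ 7 ∣ 51765179004000000 := (pow_dvd_pow 5 (by omega)).trans h3
    revert h6
    norm_num
  exact pow_dvd_pow 5 h4

/-- an element of order three commuting with `f` with `|C_E(x)| = 5 ^ 3`, conjugate to `x₀` -/
theorem exists_three_core {x₀ : Cfsg.Spor.Ly} (h₀ : CpAutLy.Base.Three x₀) :
    ∃ (L : LyType Cfsg.Spor.Ly) (f : Cfsg.Spor.Ly) (_ : Five L f) (x g : Cfsg.Spor.Ly), g * x * g⁻¹ = x₀ ∧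
      Nat.card ↥(core f ⊓ centralizer ({x} : Set Cfsg.Spor.Ly)) = 5 ^ 3 := by
  have hfin : Finite Cfsg.Spor.Ly := Ly.Setup.finite_ly
  obtain ⟨M⟩ := TypeM.FactsLy.exists_mt_ly
  let L : LyType Cfsg.Spor.Ly := { t := M.t, K := M.K, hz := M.hz, one := M.one }
  obtain ⟨f, hf⟩ := LyFiveFinal.exists_five L
  obtain ⟨x, hx, hd⟩ := LyA1.exists_three hf
  obtain ⟨e, he, hef, hex, -⟩ := LyA1.exists_core_elem hx hf hd
  have hxf : x * f = f * x := hx.comm_of_disjoint hf hd
  have hx1 : x ≠ 1 := by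
    intro h
    have h1 := hx.cyc
    have h2 : (⟨x, L.mem_iff.2 hx.comm⟩ : ↥(centralizer ({L.t} : Set Cfsg.Spor.Ly))) = 1 := Subtype.ext h
    rw [h2, map_one] at h1
    have h3 : (1 : Equiv.Perm (Fin 11)).cycleType = {3} := h1
    rw [Equiv.Perm.cycleType_one] at h3
    exact absurd h3.symm (Multiset.singleton_ne_zero 3)
  have h3F : Fact (Nat.Prime 3) := ⟨Nat.prime_three⟩
  have hx3 : orderOf x = 3 := orderOf_eq_prime hx.pow hx1
  obtain ⟨s, hs, hsx, hsn⟩ := CpAutLy.Row.exists_base_nn h₀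
  have htx : M.t * x = x * M.t := hx.comm.symm
  have hnn : nn x M.t = 120960 := by
    have hct : (M.K.π (xc htx)).cycleType = {3} := hx.cyc
    rcases CpAutLy.Types.cases M hx3 htx with h | h | h
    · exact h.2
    · exfalso
      have h3 := h.1
      rw [hct] at h3
      revert h3
      decide
    · exfalso
      have h3 := h.1
      rw [hct] at h3
      revert h3
      decide
  obtain ⟨g, hg⟩ := exists_conj_of_nn M hx3 M.orderOf_t htx hnn h₀.ord hs hsx hsn
  exact ⟨L, f, hf, x, g, hg, (extra hf).card_three x (mem_Sx_of_three hf hx.comm hx.pow hxf) hx1 hx.pow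
    ⟨e, he, hef, hex⟩⟩

/-- an element of order five of `C(x₀)` does not centralize a Sylow 3-subgroup -/
theorem not_five {x₀ : Cfsg.Spor.Ly} (h₀ : CpAutLy.Base.Three x₀) {y : Cfsg.Spor.Ly} (hy : orderOf y = 5)
    (hyx : y * x₀ = x₀ * y) : ¬ 3 ^ 7 ∣ Nat.card ↥(centralizer ({y} : Set Cfsg.Spor.Ly)) := by
  have hfin : Finite Cfsg.Spor.Ly := Ly.Setup.finite_ly
  have h5F : Fact (Nat.Prime 5) := ⟨Nat.prime_five⟩
  obtain ⟨L, f, hf, x, g, hg, hcard⟩ := exists_three_core h₀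
  have hcx : Nat.card ↥(centralizer ({x} : Set Cfsg.Spor.Ly)) = 2694384000 := by
    rw [CpAutLy.McLThree.card_cent_conj hg, Ly67.card_cent_three h₀]
  -- a Sylow 5-subgroup of `C(x)` in `E`
  set Q := (core f).subgroupOf (centralizer ({x} : Set Cfsg.Spor.Ly)) with hQ
  have hQc : Nat.card ↥Q = 5 ^ 3 := by
    rw [← hcard, inf_comm, ← Subgroup.card_map_of_injective (centralizer ({x} : Set Cfsg.Spor.Ly)).subtype_injective,
      hQ, subgroupOf_map_subtype, inf_comm]
  have hQp : IsPGroup 5 ↥Q := IsPGroup.of_card hQc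
  obtain ⟨S, hS⟩ := hQp.exists_le_sylow
  have hSc : Nat.card ↥(S : Subgroup ↥(centralizer ({x} : Set Cfsg.Spor.Ly))) ∣ 5 ^ 3 := by
    obtain ⟨n, hn⟩ := IsPGroup.iff_card.1 S.isPGroup'
    have h1 : Nat.card ↥(S : Subgroup ↥(centralizer ({x} : Set Cfsg.Spor.Ly))) ∣ 2694384000 := by
      rw [← hcx]
      exact card_subgroup_dvd_card _
    rw [hn] at h1 ⊢
    have h4 : n ≤ 3 := by
      by_contra hcon
      have h6 : 5 ^ 4 ∣ 2694384000 := (pow_dvd_pow 5 (by omega)).trans h1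
      revert h6
      norm_num
    exact pow_dvd_pow 5 h4
  have hQS : Q = (S : Subgroup ↥(centralizer ({x} : Set Cfsg.Spor.Ly))) := by
    apply eq_of_le_of_card_ge hS
    rw [hQc]
    exact Nat.le_of_dvd (by norm_num) hSc
  -- `y' = g⁻¹ y g`
  have hy'x : g⁻¹ * y * g * x = x * (g⁻¹ * y * g) := by
    have h1 := CpAutLy.McLThree.conj_comm g⁻¹ hyx
    rw [inv_inv] at h1
    have h2 : g⁻¹ * x₀ * g = x := by rw [← hg]; group
    rwa [h2] at h1
  have hy' : orderOf (g⁻¹ * y * g) = 5 := by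
    have h1 := CpAutLy.McLThree.orderOf_conj' g⁻¹ y
    rw [inv_inv] at h1
    rw [h1, hy]
  let y' : ↥(centralizer ({x} : Set Cfsg.Spor.Ly)) := ⟨g⁻¹ * y * g, mem_centralizer_singleton_iff.2 hy'x⟩
  have hy'o : orderOf y' = 5 := by rw [Subgroup.orderOf_mk]; exact hy'
  obtain ⟨T, hT⟩ := (IsPGroup.of_card (p := 5) (n := 1) (G := ↥(zpowers y'))
    (by rw [Nat.card_zpowers, hy'o, pow_one])).exists_le_sylow
  obtain ⟨c, hc⟩ := MulAction.exists_smul_eq ↥(centralizer ({x} : Set Cfsg.Spor.Ly)) T S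
  have hu : c * y' * c⁻¹ ∈ Q := by
    rw [hQS, ← hc]
    exact ⟨y', hT (mem_zpowers y'), rfl⟩
  have hu' : ((c * y' * c⁻¹ : ↥(centralizer ({x} : Set Cfsg.Spor.Ly))) : Cfsg.Spor.Ly) ∈ core f := mem_subgroupOf.1 hu
  have hcu : ((c * y' * c⁻¹ : ↥(centralizer ({x} : Set Cfsg.Spor.Ly))) : Cfsg.Spor.Ly) =
      ((c : Cfsg.Spor.Ly) * g⁻¹) * y * ((c : Cfsg.Spor.Ly) * g⁻¹)⁻¹ := by
    change (c : Cfsg.Spor.Ly) * (g⁻¹ * y * g) * (c : Cfsg.Spor.Ly)⁻¹ = _
    group
  rw [hcu] at hu'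
  intro h
  refine not_dvd_core hf Ly.Setup.card_ly hu' ?_ ?_
  · intro h1
    rw [conj_eq_one_iff] at h1
    rw [h1, orderOf_one] at hy
    omega
  · rwa [← CpAutLy.McLThree.card_cent_conj (x := y) (g := (c : Cfsg.Spor.Ly) * g⁻¹) rfl]

/-- an element of order eleven of `C(x₀)` does not centralize a Sylow 3-subgroup -/
theorem not_eleven {x₀ : Cfsg.Spor.Ly} (h₀ : CpAutLy.Base.Three x₀) {y : Cfsg.Spor.Ly} (hy : orderOf y = 11)
    (hyx : y * x₀ = x₀ * y) {P : Subgroup Cfsg.Spor.Ly} (hP : Nat.card ↥P = 3 ^ 7)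
    (hPx : P ≤ centralizer ({x₀} : Set Cfsg.Spor.Ly)) (hPy : ∀ p ∈ P, p * y = y * p) : False := by
  have hfin : Finite Cfsg.Spor.Ly := Ly.Setup.finite_ly
  have h11F : Fact (Nat.Prime 11) := ⟨by norm_num⟩
  set C := centralizer ({x₀} : Set Cfsg.Spor.Ly) with hC
  let π := QuotientGroup.mk' (center ↥C)
  let y' : ↥C := ⟨y, mem_centralizer_singleton_iff.2 hyx⟩
  have hy' : orderOf y' = 11 := by rw [Subgroup.orderOf_mk]; exact hy
  have hyc : y' ∉ center ↥C := by
    intro h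
    have h1 := (center ↥C).orderOf_dvd_natCard h
    rw [hy', h₀.zcard] at h1
    revert h1
    decide
  have hyb : orderOf (π y') = 11 := CpAutLy.Row.orderOf_mk (by norm_num) hy' hyc
  obtain ⟨h1, -⟩ := H904.McLCent.eleven h₀.quot (zpowers (π y')) (by rw [Nat.card_zpowers, hyb])
  -- the image of `P`
  set P' := P.subgroupOf C with hP'
  have hP'c : Nat.card ↥P' = 3 ^ 7 := by
    rw [← hP]
    exact Nat.card_congr (Subgroup.subgroupOfEquivOfLe hPx).toEquiv
  have hle : P'.map π ≤ centralizer ((zpowers (π y') : Subgroup _) : Set (↥C ⧸ center ↥C)) := by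
    rintro _ ⟨p, hp, rfl⟩
    rw [mem_centralizer_iff]
    rintro _ ⟨n, rfl⟩
    have h2 : Commute p y' := Subtype.ext (hPy p (mem_subgroupOf.1 hp))
    have h3 : Commute (π p) (π y') := h2.map π
    exact (h3.zpow_right n).eq.symm
  have h2 := card_dvd_of_le hle
  rw [h1] at h2
  -- the order of the image
  have h3 : Nat.card ↥P' ∣ Nat.card ↥(center ↥C) * Nat.card ↥(P'.map π) := by
    have h4 := (π.comp P'.subtype).ker.card_mul_index
    rw [index_ker] at h4
    have h5 : (π.comp P'.subtype).range = P'.map π := by rw [MonoidHom.range_comp, range_subtype]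
    rw [h5] at h4
    rw [← h4]
    refine Nat.mul_dvd_mul ?_ (dvd_refl _)
    have h6 : (π.comp P'.subtype).ker.map P'.subtype ≤ center ↥C := by
      rintro _ ⟨q, hq, rfl⟩
      have h7 : π (q : ↥C) = 1 := hq
      exact (QuotientGroup.eq_one_iff _).1 h7
    have h8 := card_dvd_of_le h6
    rwa [card_map_of_injective P'.subtype_injective] at h8
  rw [hP'c, h₀.zcard] at h3
  have h4 := h3.trans (Nat.mul_dvd_mul (dvd_refl 3) h2)
  revert h4
  decide

/-- **`NB 3 1 Ly`** -/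
theorem nb : Cfsg.Agent.H709.PB.NB 3 1 Cfsg.Spor.Ly := by
  have hfin : Finite Cfsg.Spor.Ly := Ly.Setup.finite_ly
  have h3F : Fact (Nat.Prime 3) := ⟨Nat.prime_three⟩
  obtain ⟨x₀, h₀⟩ := exists_three
  obtain ⟨L, f, hf⟩ := exists_lyType
  have hcx := Ly67.card_cent_three h₀
  let x' : ↥(centralizer ({x₀} : Set Cfsg.Spor.Ly)) := ⟨x₀, mem_centralizer_singleton_iff.2 rfl⟩
  have hx'o : orderOf x' = 3 := by rw [Subgroup.orderOf_mk]; exact h₀.ord
  obtain ⟨T, hT⟩ := (IsPGroup.of_card (p := 3) (n := 1) (G := ↥(zpowers x'))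
    (by rw [Nat.card_zpowers, hx'o, pow_one])).exists_le_sylow
  have hT7 : 3 ^ 7 ∣ Nat.card ↥T := T.pow_dvd_card_of_pow_dvd_card (by rw [hcx]; norm_num)
  set P := (T : Subgroup ↥(centralizer ({x₀} : Set Cfsg.Spor.Ly))).map
    (centralizer ({x₀} : Set Cfsg.Spor.Ly)).subtype with hPdef
  have hPT : Nat.card ↥P = Nat.card ↥T := card_map_of_injective (subtype_injective _)
  have hP3 : IsPGroup 3 ↥P := T.isPGroup'.map _
  have hP : Nat.card ↥P = 3 ^ 7 := by
    obtain ⟨n, hn⟩ := IsPGroup.iff_card.1 hP3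
    have h1 : Nat.card ↥P ∣ 51765179004000000 := by
      rw [← Ly.Setup.card_ly]
      exact card_subgroup_dvd_card _
    rw [← hPT] at hT7
    rw [hn] at h1 hT7 ⊢
    have h2 := (Nat.pow_dvd_pow_iff_le_right (by norm_num : 1 < 3)).1 hT7
    have h4 : n ≤ 7 := by
      by_contra hcon
      have h6 : 3 ^ 8 ∣ 51765179004000000 := (pow_dvd_pow 3 (by omega)).trans h1
      revert h6
      norm_num
    rw [le_antisymm h4 h2]
  have hx₀P : x₀ ∈ P := ⟨x', hT (mem_zpowers x'), rfl⟩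
  obtain ⟨S, hS⟩ := hP3.exists_le_sylow
  refine Cfsg.Agent.H709.PB.NB.of_sylow S ?_
  refine (H394.PBTools.isPGroup_of_primes _ fun r hr hr3 hd => ?_)
  have hrF : Fact r.Prime := ⟨hr⟩
  obtain ⟨y', hy'⟩ := exists_prime_orderOf_dvd_card' r hd
  obtain ⟨y, hyC, hy⟩ : ∃ y : Cfsg.Spor.Ly, y ∈ centralizer ((S : Subgroup Cfsg.Spor.Ly) : Set Cfsg.Spor.Ly) ∧
      orderOf y = r := ⟨y', y'.2, by rw [Subgroup.orderOf_coe, hy']⟩
  rw [mem_centralizer_iff] at hyC
  have hPy : ∀ p ∈ P, p * y = y * p := fun p hp => hyC p (hS hp)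
  have hyx : y * x₀ = x₀ * y := (hPy x₀ hx₀P).symm
  have h7 : 3 ^ 7 ∣ Nat.card ↥(centralizer ({y} : Set Cfsg.Spor.Ly)) := by
    rw [← hP]
    exact card_dvd_of_le fun p hp => mem_centralizer_singleton_iff.2 (hPy p hp)
  have hr' : r ∣ 2694384000 := by
    have h1 := (centralizer ({x₀} : Set Cfsg.Spor.Ly)).orderOf_dvd_natCard (mem_centralizer_singleton_iff.2 hyx)
    rwa [hy, hcx] at h1
  rw [show 2694384000 = 2 ^ 7 * 3 ^ 7 * 5 ^ 3 * 7 * 11 by norm_num, hr.dvd_mul, hr.dvd_mul, hr.dvd_mul,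
    hr.dvd_mul] at hr'
  rcases hr' with (((h | h) | h) | h) | h
  · have := (Nat.prime_dvd_prime_iff_eq hr Nat.prime_two).1 (hr.dvd_of_dvd_pow h)
    subst this
    rw [card_inv L hy] at h7
    revert h7
    norm_num
  · exact hr3 ((Nat.prime_dvd_prime_iff_eq hr Nat.prime_three).1 (hr.dvd_of_dvd_pow h))
  · have := (Nat.prime_dvd_prime_iff_eq hr Nat.prime_five).1 (hr.dvd_of_dvd_pow h)
    subst this
    exact not_five h₀ hy hyx h7
  · have := (Nat.prime_dvd_prime_iff_eq hr (by norm_num : Nat.Prime 7)).1 h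
    subst this
    have h8 : Nat.card ↥(centralizer ({y} : Set Cfsg.Spor.Ly)) ∣ 1008 := by
      rw [← H314.LyOrb.card_normalizer_seven hy]
      exact card_dvd_of_le (Ly67.cent_le_normalizer y)
    have h9 := h7.trans h8
    revert h9
    decide
  · have := (Nat.prime_dvd_prime_iff_eq hr (by norm_num : Nat.Prime 11)).1 h
    subst this
    exact not_eleven h₀ hy hyx hP (map_subtype_le _) hPy

end Cfsg.Agent.H799.PB.Ly3
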