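import Cfsg.Agent.H799.PB.Ly3

/-!
# S4826: the row of the Lyons group (helper799)

`p ≠ 7` : characters of degrees `4226695` (odd) and `3028266` (prime to 5) are in the principal 2-block, 5-block.
`p = 7` : `7 * 2 * 3 * 5 ^ 5 * 31 * 67 > √|Ly|`.
-/

set_option autoImplicit false

namespace Cfsg.Agent.H799.PB

open Subgroup Cfsg
open Cfsg.Agent Cfsg.Agent.SporRec Cfsg.Agent.H133.PB Cfsg.Agent.H709.PB Cfsg.Agent.H394.PBTools

universe u

theorem row_seven : Row 7 Cfsg.Spor.Ly := by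
  have hfin : Finite Cfsg.Spor.Ly := Cfsg.Agent.Ly.Setup.finite_ly
  have hcard := Cfsg.Agent.Ly.Setup.card_ly
  obtain ⟨L, f, hf⟩ := exists_lyType
  refine Row.of_IM (by norm_num) (H314.IMLy.im_ly' (by norm_num) (by rw [hcard]; norm_num))
    [(2, 1), (3, 1), (5, 5), (31, 1), (67, 1)] (by decide) ?_ (by rw [hcard]; norm_num)
  intro x hx
  simp only [List.mem_cons, List.not_mem_nil, or_false] at hx
  rcases hx with rfl | rfl | rfl | rfl | rfl
  · exact ⟨by norm_num, by norm_num, by rw [hcard]; norm_num, nb_two_ly⟩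
  · exact ⟨by norm_num, by norm_num, by rw [hcard]; norm_num, Ly3.nb⟩
  · exact ⟨by norm_num, by norm_num, by rw [hcard]; norm_num, nb_five_five hf hcard⟩
  · exact ⟨by norm_num, by norm_num, by rw [hcard]; norm_num, Ly31.nb⟩
  · exact ⟨by norm_num, by norm_num, by rw [hcard]; norm_num, Ly67.nb⟩

/-- **The row of the Lyons group.** -/
theorem row_ly {S : Type u} [Group S] (h : Cfsg.Spor.IsoLy S) {p : ℕ} (hp : p.Prime) (hd : p ∣ Nat.card S) :
    Cfsg.Agent.H133.PB.Row p S := by
  obtain ⟨e⟩ := h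
  exact Row.of_equiv e (row_of_seven row_seven hp (by rwa [← Nat.card_congr e.toEquiv]))

end Cfsg.Agent.H799.PB
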